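import Mathlib

/-!
Uniformly bounded gluing: morphisms out of a "product" `S` of schemes `T i` into a qcqs scheme.
-/

set_option autoImplicit false

open CategoryTheory Limits AlgebraicGeometry TopologicalSpace

universe u

namespace Groth.Agent.PiPoints

noncomputable section

set_option backward.isDefEq.respectTransparency false in
lemma ι_appTop_topIso_hom {T : Scheme.{u}} (U : T.Opens) :
    U.ι.appTop ≫ U.topIso.hom = T.presheaf.map (homOfLE (le_top : U ≤ ⊤)).op := by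
  rw [Scheme.Opens.ι_appTop, Scheme.Opens.topIso_hom, ← Functor.map_comp]
  rfl

lemma topIso_hom_ι_appTop {T : Scheme.{u}} (U : T.Opens) (w : Γ(T, ⊤)) :
    U.topIso.hom (U.ι.appTop w) = T.presheaf.map (homOfLE (le_top : U ≤ ⊤)).op w :=
  congr($(ι_appTop_topIso_hom U) w)

lemma isUnit_ι_appTop_basicOpen {Y : Scheme.{u}} (α : Γ(Y, ⊤)) :
    IsUnit ((Y.basicOpen α).ι.appTop α) := by
  have h := Y.toRingedSpace.isUnit_res_basicOpen α
  have h' : IsUnit ((Y.basicOpen α).topIso.hom ((Y.basicOpen α).ι.appTop α)) := by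
    rw [topIso_hom_ι_appTop]; exact h
  exact (isUnit_map_iff (Y.basicOpen α).topIso.commRingCatIsoToRingEquiv _).mp h'

lemma zero_of_ι_zero {T : Scheme.{u}} {κ : Type*} (O : κ → T.Opens) (hO : IsOpenCover O)
    (z : Γ(T, ⊤)) (h : ∀ k, (O k).ι.appTop z = 0) : z = 0 :=
  Scheme.zero_of_zero_cover z (T.openCoverOfIsOpenCover O hO) fun k => h k

lemma eq_of_ι_eq {T : Scheme.{u}} {κ : Type*} (O : κ → T.Opens) (hO : IsOpenCover O)
    (y z : Γ(T, ⊤)) (h : ∀ k, (O k).ι.appTop y = (O k).ι.appTop z) : y = z := by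
  rw [← sub_eq_zero]
  exact zero_of_ι_zero O hO _ fun k => by rw [map_sub, h, sub_self]

set_option backward.isDefEq.respectTransparency false in
lemma topIso_hom_homOfLE_cat {T : Scheme.{u}} {U V : T.Opens} (h : U ≤ V) :
    V.topIso.hom ≫ T.presheaf.map (homOfLE h).op = (T.homOfLE h).appTop ≫ U.topIso.hom := by
  rw [Scheme.homOfLE_appTop, Scheme.Opens.topIso_hom, Scheme.Opens.topIso_hom,
    ← Functor.map_comp, ← Functor.map_comp]
  rfl

lemma topIso_hom_homOfLE {T : Scheme.{u}} {U V : T.Opens} (h : U ≤ V) (v : Γ(V.toScheme, ⊤)) :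
    T.presheaf.map (homOfLE h).op (V.topIso.hom v) =
      U.topIso.hom ((T.homOfLE h).appTop v) :=
  congr($(topIso_hom_homOfLE_cat h) v)

lemma exists_glue {T : Scheme.{u}} {κ : Type*} (O : κ → T.Opens) (hO : IsOpenCover O)
    (v : ∀ k, Γ((O k).toScheme, ⊤))
    (h : ∀ j k, (T.homOfLE (inf_le_left : O j ⊓ O k ≤ O j)).appTop (v j) =
      (T.homOfLE (inf_le_right : O j ⊓ O k ≤ O k)).appTop (v k)) :
    ∃ σ : Γ(T, ⊤), ∀ k, (O k).ι.appTop σ = v k := by
  obtain ⟨σ, hσ, -⟩ := T.sheaf.existsUnique_gluing' O ⊤ (fun k => homOfLE le_top)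
    (by rw [hO.iSup_eq_top]) (fun k => (O k).topIso.hom (v k)) (fun j k => by
      change T.presheaf.map _ _ = T.presheaf.map _ _
      rw [show (Opens.infLELeft (O j) (O k)) = homOfLE inf_le_left from rfl,
        show (Opens.infLERight (O j) (O k)) = homOfLE inf_le_right from rfl,
        topIso_hom_homOfLE, topIso_hom_homOfLE, h])
  refine ⟨σ, fun k => ?_⟩
  have := hσ k
  apply (O k).topIso.commRingCatIsoToRingEquiv.injective
  change (O k).topIso.hom _ = (O k).topIso.hom _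
  rw [← this]
  exact topIso_hom_ι_appTop _ σ

variable {X : Scheme.{u}}

/-- Local data on `X` witnessing that a function is supported inside `W`. -/
structure Chart (W : X.Opens) where
  κ : Type u
  [fin : Finite κ]
  Y : κ → Scheme.{u}
  [aff : ∀ l, IsAffine (Y l)]
  π : ∀ l, Y l ⟶ X
  α : ∀ l, Γ(Y l, ⊤)
  ρ : ∀ l, ((Y l).basicOpen (α l)).toScheme ⟶ W.toScheme
  hρ : ∀ l, ρ l ≫ W.ι = ((Y l).basicOpen (α l)).ι ≫ π l

attribute [instance] Chart.fin Chart.aff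

variable {W W' : X.Opens} (C : Chart W) (C' : Chart W')

def IsExt (b : Γ(W.toScheme, ⊤)) (N : ℕ) (c : ∀ l, Γ(C.Y l, ⊤)) : Prop :=
  ∀ l, ((C.Y l).basicOpen (C.α l)).ι.appTop (c l) =
    ((C.Y l).basicOpen (C.α l)).ι.appTop (C.α l) ^ N * (C.ρ l).appTop b

def Adapted {T : Scheme.{u}} (f : T ⟶ X) (a : Γ(T, ⊤)) : Prop :=
  ∀ x : T, ∃ O : T.Opens, x ∈ O ∧ ∃ (l : C.κ) (g : O.toScheme ⟶ C.Y l),
    g ≫ C.π l = O.ι ≫ f ∧ g.appTop (C.α l) = O.ι.appTop a

lemma exists_ext0 (b : Γ(W.toScheme, ⊤)) : ∃ N c, IsExt C b N c := by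
  classical
  have key : ∀ l, ∃ (n : ℕ) (y : Γ(C.Y l, ⊤)), ((C.Y l).basicOpen (C.α l)).ι.appTop y =
      ((C.Y l).basicOpen (C.α l)).ι.appTop (C.α l) ^ n * (C.ρ l).appTop b := by
    intro l
    obtain ⟨n, y, hy⟩ := exists_eq_pow_mul_of_isCompact_of_isQuasiSeparated (C.Y l) ⊤
      (isAffineOpen_top _).isCompact (isAffineOpen_top _).isQuasiSeparated (C.α l)
      (((C.Y l).basicOpen (C.α l)).topIso.hom ((C.ρ l).appTop b))
    refine ⟨n, y, ?_⟩
    set D := (C.Y l).basicOpen (C.α l)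
    apply D.topIso.commRingCatIsoToRingEquiv.injective
    change D.topIso.hom _ = D.topIso.hom _
    rw [map_mul, map_pow, topIso_hom_ι_appTop, topIso_hom_ι_appTop]
    exact hy
  choose n y hy using key
  have := Fintype.ofFinite C.κ
  refine ⟨Finset.univ.sup n, fun l => C.α l ^ (Finset.univ.sup n - n l) * y l, fun l => ?_⟩
  rw [map_mul, map_pow, hy, ← mul_assoc, ← pow_add,
    Nat.sub_add_cancel (Finset.le_sup (Finset.mem_univ l))]

lemma pair_bound [QuasiSeparatedSpace X] (h : W' ≤ W) {b : Γ(W.toScheme, ⊤)} {N N' : ℕ}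
    {c : ∀ l, Γ(C.Y l, ⊤)} {c' : ∀ l, Γ(C'.Y l, ⊤)} (hc : IsExt C b N c)
    (hc' : IsExt C' ((X.homOfLE h).appTop b) N' c') :
    ∃ M : ℕ, ∀ (l : C.κ) (l' : C'.κ) {Z : Scheme.{u}} (g : Z ⟶ C.Y l) (g' : Z ⟶ C'.Y l'),
      g ≫ C.π l = g' ≫ C'.π l' →
      (g.appTop (C.α l) * g'.appTop (C'.α l')) ^ M *
        (g.appTop (c l) * g'.appTop (C'.α l') ^ N' - g'.appTop (c' l') * g.appTop (C.α l) ^ N)
        = 0 := by
  classical
  have key : ∀ (l : C.κ) (l' : C'.κ), ∃ n : ℕ,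
      ((pullback.fst (C.π l) (C'.π l')).appTop (C.α l) *
        (pullback.snd (C.π l) (C'.π l')).appTop (C'.α l')) ^ n *
      ((pullback.fst (C.π l) (C'.π l')).appTop (c l) *
        (pullback.snd (C.π l) (C'.π l')).appTop (C'.α l') ^ N' -
       (pullback.snd (C.π l) (C'.π l')).appTop (c' l') *
        (pullback.fst (C.π l) (C'.π l')).appTop (C.α l) ^ N) = 0 := by
    intro l l'
    set p := pullback.fst (C.π l) (C'.π l')
    set q := pullback.snd (C.π l) (C'.π l')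
    have : CompactSpace (pullback (C.π l) (C'.π l') : Scheme) := inferInstance
    set A := p.appTop (C.α l) with hA
    set B := q.appTop (C'.α l') with hB
    set D := (pullback (C.π l) (C'.π l')).basicOpen (A * B) with hD
    have h1 : D ≤ p ⁻¹ᵁ (C.Y l).basicOpen (C.α l) := by
      rw [Scheme.preimage_basicOpen_top, ← hA, hD, Scheme.basicOpen_mul]; exact inf_le_left
    have h2 : D ≤ q ⁻¹ᵁ (C'.Y l').basicOpen (C'.α l') := by
      rw [Scheme.preimage_basicOpen_top, ← hB, hD, Scheme.basicOpen_mul]; exact inf_le_right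
    let e := p.resLE _ D h1
    let e' := q.resLE _ D h2
    have he : e ≫ C.ρ l = e' ≫ C'.ρ l' ≫ X.homOfLE h := by
      rw [← cancel_mono W.ι]
      simp only [Category.assoc, Scheme.homOfLE_ι, Chart.hρ]
      rw [Scheme.Hom.resLE_comp_ι_assoc, Scheme.Hom.resLE_comp_ι_assoc]
      simp only [p, q, pullback.condition]
    have E1 : ∀ w, D.ι.appTop (p.appTop w) =
        e.appTop (((C.Y l).basicOpen (C.α l)).ι.appTop w) := fun w => by
      rw [← CommRingCat.comp_apply, ← CommRingCat.comp_apply, ← Scheme.Hom.comp_appTop,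
        ← Scheme.Hom.comp_appTop, Scheme.Hom.resLE_comp_ι]
    have E2 : ∀ w, D.ι.appTop (q.appTop w) =
        e'.appTop (((C'.Y l').basicOpen (C'.α l')).ι.appTop w) := fun w => by
      rw [← CommRingCat.comp_apply, ← CommRingCat.comp_apply, ← Scheme.Hom.comp_appTop,
        ← Scheme.Hom.comp_appTop, Scheme.Hom.resLE_comp_ι]
    have hz : D.ι.appTop (p.appTop (c l) * B ^ N' - q.appTop (c' l') * A ^ N) = 0 := by
      have := congr(($he).appTop b)
      simp only [Scheme.Hom.comp_appTop, CommRingCat.comp_apply] at this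
      rw [map_sub, map_mul, map_mul, map_pow, map_pow, hA, hB, E1, E1, E2, E2, hc l, hc' l',
        map_mul, map_mul, map_pow, map_pow, this]
      ring
    refine exists_pow_mul_eq_zero_of_res_basicOpen_eq_zero_of_isCompact _
      (U := ⊤) isCompact_univ _ _ ?_
    have := congr(D.topIso.hom $hz)
    rw [map_zero, topIso_hom_ι_appTop] at this
    exact this
  choose n hn using key
  have := Fintype.ofFinite C.κ
  have := Fintype.ofFinite C'.κ
  refine ⟨Finset.univ.sup fun l => Finset.univ.sup (n l), fun l l' Z g g' hg => ?_⟩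
  obtain ⟨d, hd⟩ := Nat.exists_eq_add_of_le (show n l l' ≤
      Finset.univ.sup fun l => Finset.univ.sup (n l) from
    (Finset.le_sup (f := n l) (Finset.mem_univ l')).trans
      (Finset.le_sup (f := fun l => Finset.univ.sup (n l)) (Finset.mem_univ l)))
  have hv := congr((pullback.lift g g' hg).appTop $(hn l l'))
  simp only [map_mul, map_pow, map_sub, map_zero, ← CommRingCat.comp_apply,
    ← Scheme.Hom.comp_appTop, pullback.lift_fst, pullback.lift_snd] at hv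
  rw [hd, pow_add, mul_right_comm, hv, zero_mul]

/-- A family of schemes over `S` with `Γ(S) = ∏ Γ(T i)`, and maps to `X`. -/
structure Prod' (X : Scheme.{u}) where
  ι : Type u
  S : Scheme.{u}
  T : ι → Scheme.{u}
  s : ∀ i, T i ⟶ S
  f : ∀ i, T i ⟶ X
  inj : ∀ y z : Γ(S, ⊤), (∀ i, (s i).appTop y = (s i).appTop z) → y = z
  surj : ∀ v : (∀ i, Γ(T i, ⊤)), ∃ y : Γ(S, ⊤), ∀ i, (s i).appTop y = v i

variable (P : Prod' X) (a a' : Γ(P.S, ⊤))

def Good (b : Γ(W.toScheme, ⊤)) (N : ℕ) (σ : Γ(P.S, ⊤)) (c : ∀ l, Γ(C.Y l, ⊤)) : Prop :=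
  IsExt C b N c ∧ ∀ (i : P.ι) (l : C.κ) {Z : Scheme.{u}} (j : Z ⟶ P.T i) (g : Z ⟶ C.Y l),
    g ≫ C.π l = j ≫ P.f i → g.appTop (C.α l) = j.appTop ((P.s i).appTop a) →
    g.appTop (c l) = j.appTop ((P.s i).appTop σ)

def IsAdapted : Prop := ∀ i, Adapted C (P.f i) ((P.s i).appTop a)

variable {C C' P a a'}

lemma exists_good [QuasiSeparatedSpace X] (ha : IsAdapted C P a) (b : Γ(W.toScheme, ⊤)) :
    ∃ N σ c, Good C P a b N σ c := by
  classical
  obtain ⟨N₀, c₀, hc₀⟩ := exists_ext0 C b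
  obtain ⟨M, hM⟩ := pair_bound C C le_rfl hc₀ (by simpa using hc₀)
  let c : ∀ l, Γ(C.Y l, ⊤) := fun l => C.α l ^ (2 * M + N₀) * c₀ l
  have agree : ∀ (i : P.ι) {Z : Scheme.{u}} (j : Z ⟶ P.T i) (l l' : C.κ) (g : Z ⟶ C.Y l)
      (g' : Z ⟶ C.Y l'), g ≫ C.π l = j ≫ P.f i → g' ≫ C.π l' = j ≫ P.f i →
      g.appTop (C.α l) = j.appTop ((P.s i).appTop a) →
      g'.appTop (C.α l') = j.appTop ((P.s i).appTop a) →
      g.appTop (c l) = g'.appTop (c l') := by
    intro i Z j l l' g g' h1 h2 h3 h4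
    have := hM l l' g g' (h1.trans h2.symm)
    simp only [c, map_mul, map_pow, h3, h4] at this ⊢
    rw [← sub_eq_zero]
    linear_combination this
  have key : ∀ i, ∃ σ : Γ(P.T i, ⊤), ∀ (l : C.κ) {Z : Scheme.{u}} (j : Z ⟶ P.T i)
      (g : Z ⟶ C.Y l), g ≫ C.π l = j ≫ P.f i →
      g.appTop (C.α l) = j.appTop ((P.s i).appTop a) → g.appTop (c l) = j.appTop σ := by
    intro i
    choose O hxO l g hg hga using ha i
    have hO : IsOpenCover O := by
      rw [IsOpenCover, eq_top_iff]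
      exact fun x _ => Opens.mem_iSup.mpr ⟨x, hxO x⟩
    obtain ⟨σ, hσ⟩ := exists_glue O hO (fun x => (g x).appTop (c (l x))) (fun x y => by
      rw [← CommRingCat.comp_apply, ← CommRingCat.comp_apply, ← Scheme.Hom.comp_appTop,
        ← Scheme.Hom.comp_appTop]
      refine agree i ((O x ⊓ O y).ι) _ _ _ _ ?_ ?_ ?_ ?_
      · rw [Category.assoc, hg, Scheme.homOfLE_ι_assoc]
      · rw [Category.assoc, hg, Scheme.homOfLE_ι_assoc]
      · rw [Scheme.Hom.comp_appTop, CommRingCat.comp_apply, hga, ← CommRingCat.comp_apply,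
          ← Scheme.Hom.comp_appTop, Scheme.homOfLE_ι]
      · rw [Scheme.Hom.comp_appTop, CommRingCat.comp_apply, hga, ← CommRingCat.comp_apply,
          ← Scheme.Hom.comp_appTop, Scheme.homOfLE_ι])
    refine ⟨σ, fun l' Z j g' h1 h2 => eq_of_ι_eq (fun x => j ⁻¹ᵁ O x) ?_ _ _ fun x => ?_⟩
    · rw [IsOpenCover, eq_top_iff]
      exact fun z _ => Opens.mem_iSup.mpr ⟨j z, hxO (j z)⟩
    · have hσx := congr((j ∣_ O x).appTop $(hσ x))
      simp only [← CommRingCat.comp_apply, ← Scheme.Hom.comp_appTop, morphismRestrict_ι] at hσx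
      rw [← CommRingCat.comp_apply, ← CommRingCat.comp_apply, ← Scheme.Hom.comp_appTop,
        ← Scheme.Hom.comp_appTop, hσx]
      refine agree i ((j ⁻¹ᵁ O x).ι ≫ j) _ _ _ _ ?_ ?_ ?_ ?_
      · rw [Category.assoc, h1, Category.assoc]
      · rw [Category.assoc, hg, morphismRestrict_ι_assoc, Category.assoc]
      · rw [Scheme.Hom.comp_appTop, CommRingCat.comp_apply, h2, ← CommRingCat.comp_apply,
          ← Scheme.Hom.comp_appTop]
      · rw [Scheme.Hom.comp_appTop, CommRingCat.comp_apply, hga, ← CommRingCat.comp_apply,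
          ← Scheme.Hom.comp_appTop, morphismRestrict_ι]
  choose v hv using key
  obtain ⟨σ, hσ⟩ := P.surj v
  refine ⟨2 * M + N₀ + N₀, σ, c, fun l => ?_, fun i l Z j g h1 h2 => ?_⟩
  · simp only [c, map_mul, map_pow, hc₀ l]; ring
  · rw [hσ i]; exact hv i l j g h1 h2

lemma good_bound [QuasiSeparatedSpace X] (ha : IsAdapted C P a) (ha' : IsAdapted C' P a')
    (h : W' ≤ W) {b : Γ(W.toScheme, ⊤)} {N N' : ℕ} {σ σ' : Γ(P.S, ⊤)}
    {c : ∀ l, Γ(C.Y l, ⊤)} {c' : ∀ l, Γ(C'.Y l, ⊤)} (hg : Good C P a b N σ c)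
    (hg' : Good C' P a' ((X.homOfLE h).appTop b) N' σ' c') :
    ∃ M : ℕ, (a * a') ^ M * (σ * a' ^ N' - σ' * a ^ N) = 0 := by
  obtain ⟨M, hM⟩ := pair_bound C C' h hg.1 hg'.1
  refine ⟨M, P.inj _ _ fun i => ?_⟩
  rw [map_zero]
  choose O hxO l g hgπ hga using ha i
  choose O' hxO' l' g' hgπ' hga' using ha' i
  apply zero_of_ι_zero (fun x => O x ⊓ O' x)
  · rw [IsOpenCover, eq_top_iff]
    exact fun x _ => Opens.mem_iSup.mpr ⟨x, hxO x, hxO' x⟩
  intro x
  let j := (O x ⊓ O' x).ι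
  let k := (P.T i).homOfLE (inf_le_left : O x ⊓ O' x ≤ O x) ≫ g x
  let k' := (P.T i).homOfLE (inf_le_right : O x ⊓ O' x ≤ O' x) ≫ g' x
  have h1 : k ≫ C.π _ = j ≫ P.f i := by simp [k, j, hgπ]
  have h1' : k' ≫ C'.π _ = j ≫ P.f i := by simp [k', j, hgπ']
  have h2 : k.appTop (C.α _) = j.appTop ((P.s i).appTop a) := by
    simp only [k, j, Scheme.Hom.comp_appTop, CommRingCat.comp_apply, hga]
    rw [← CommRingCat.comp_apply, ← Scheme.Hom.comp_appTop, Scheme.homOfLE_ι]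
  have h2' : k'.appTop (C'.α _) = j.appTop ((P.s i).appTop a') := by
    simp only [k', j, Scheme.Hom.comp_appTop, CommRingCat.comp_apply, hga']
    rw [← CommRingCat.comp_apply, ← Scheme.Hom.comp_appTop, Scheme.homOfLE_ι]
  have := hM (l x) (l' x) k k' (h1.trans h1'.symm)
  rw [h2, h2', hg.2 i _ j k h1 h2, hg'.2 i _ j k' h1' h2'] at this
  simpa only [map_mul, map_pow, map_sub] using this

lemma Good.shift {b : Γ(W.toScheme, ⊤)} {N : ℕ} {σ : Γ(P.S, ⊤)} {c : ∀ l, Γ(C.Y l, ⊤)}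
    (h : Good C P a b N σ c) (K : ℕ) :
    Good C P a b (N + K) (σ * a ^ K) (fun l => c l * C.α l ^ K) := by
  refine ⟨fun l => ?_, fun i l Z j g h1 h2 => ?_⟩
  · rw [map_mul, map_pow, h.1 l]; ring
  · simp only [map_mul, map_pow, h2, h.2 i l j g h1 h2]

lemma Good.add {b b₂ : Γ(W.toScheme, ⊤)} {N : ℕ} {σ σ₂ : Γ(P.S, ⊤)}
    {c c₂ : ∀ l, Γ(C.Y l, ⊤)}
    (h : Good C P a b N σ c) (h₂ : Good C P a b₂ N σ₂ c₂) :
    Good C P a (b + b₂) N (σ + σ₂) (fun l => c l + c₂ l) := by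
  refine ⟨fun l => ?_, fun i l Z j g h1 h2 => ?_⟩
  · rw [map_add, h.1 l, h₂.1 l, map_add]; ring
  · simp only [map_add, h.2 i l j g h1 h2, h₂.2 i l j g h1 h2]

lemma Good.mul {b b₂ : Γ(W.toScheme, ⊤)} {N N₂ : ℕ} {σ σ₂ : Γ(P.S, ⊤)}
    {c c₂ : ∀ l, Γ(C.Y l, ⊤)}
    (h : Good C P a b N σ c) (h₂ : Good C P a b₂ N₂ σ₂ c₂) :
    Good C P a (b * b₂) (N + N₂) (σ * σ₂) (fun l => c l * c₂ l) := by
  refine ⟨fun l => ?_, fun i l Z j g h1 h2 => ?_⟩
  · rw [map_mul, h.1 l, h₂.1 l, map_mul]; ring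
  · simp only [map_mul, h.2 i l j g h1 h2, h₂.2 i l j g h1 h2]

lemma good_one : Good C P a 1 0 1 (fun _ => 1) :=
  ⟨fun l => by simp, fun i l Z j g _ _ => by simp⟩

lemma good_zero : Good C P a 0 0 0 (fun _ => 0) :=
  ⟨fun l => by simp, fun i l Z j g _ _ => by simp⟩

variable (C P a)

def IsVal {Z : Scheme.{u}} (v : Z ⟶ P.S) (b : Γ(W.toScheme, ⊤)) (z : Γ(Z, ⊤)) : Prop :=
  ∃ N σ c, Good C P a b N σ c ∧ v.appTop σ = v.appTop a ^ N * z

variable {C P a}

variable [QuasiSeparatedSpace X]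

lemma exists_isVal (ha : IsAdapted C P a) {Z : Scheme.{u}} (v : Z ⟶ P.S)
    (hv : IsUnit (v.appTop a)) (b : Γ(W.toScheme, ⊤)) : ∃ z, IsVal C P a v b z := by
  obtain ⟨N, σ, c, h⟩ := exists_good ha b
  obtain ⟨e, he⟩ := hv.pow N
  exact ⟨↑e⁻¹ * v.appTop σ, N, σ, c, h, by rw [← he, Units.mul_inv_cancel_left]⟩

lemma isVal_unique (ha : IsAdapted C P a) (ha' : IsAdapted C' P a') (h : W' ≤ W)
    {Z : Scheme.{u}} {v : Z ⟶ P.S} (hv : IsUnit (v.appTop a)) (hv' : IsUnit (v.appTop a'))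
    {b : Γ(W.toScheme, ⊤)} {z z' : Γ(Z, ⊤)} (hz : IsVal C P a v b z)
    (hz' : IsVal C' P a' v ((X.homOfLE h).appTop b) z') : z = z' := by
  obtain ⟨N, σ, c, hg, e⟩ := hz
  obtain ⟨N', σ', c', hg', e'⟩ := hz'
  obtain ⟨M, hM⟩ := good_bound ha ha' h hg hg'
  have := congr(v.appTop $hM)
  simp only [map_mul, map_pow, map_sub, map_zero, e, e'] at this
  rw [← sub_eq_zero]
  refine (((hv.mul hv').pow M).mul ((hv.pow N).mul (hv'.pow N'))).mul_right_eq_zero.mp ?_
  linear_combination this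

lemma isVal_unique' (ha : IsAdapted C P a) {Z : Scheme.{u}} {v : Z ⟶ P.S}
    (hv : IsUnit (v.appTop a))
    {b : Γ(W.toScheme, ⊤)} {z z' : Γ(Z, ⊤)} (hz : IsVal C P a v b z)
    (hz' : IsVal C P a v b z') : z = z' :=
  isVal_unique ha ha le_rfl hv hv hz (by simpa using hz')

/-- The value homomorphism. -/
def valHom (ha : IsAdapted C P a) {Z : Scheme.{u}} (v : Z ⟶ P.S) (hv : IsUnit (v.appTop a)) :
    Γ(W.toScheme, ⊤) ⟶ Γ(Z, ⊤) :=
  CommRingCat.ofHom
  { toFun := fun b => (exists_isVal ha v hv b).choose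
    map_one' := isVal_unique' ha hv (exists_isVal ha v hv 1).choose_spec
      ⟨0, 1, _, good_one, by simp⟩
    map_zero' := isVal_unique' ha hv (exists_isVal ha v hv 0).choose_spec
      ⟨0, 0, _, good_zero, by simp⟩
    map_mul' := fun b b₂ => by
      obtain ⟨N, σ, c, hg, e⟩ := (exists_isVal ha v hv b).choose_spec
      obtain ⟨N₂, σ₂, c₂, hg₂, e₂⟩ := (exists_isVal ha v hv b₂).choose_spec
      refine isVal_unique' ha hv (exists_isVal ha v hv _).choose_spec ⟨_, _, _, hg.mul hg₂, ?_⟩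
      rw [map_mul, e, e₂]; ring
    map_add' := fun b b₂ => by
      obtain ⟨N, σ, c, hg, e⟩ := (exists_isVal ha v hv b).choose_spec
      obtain ⟨N₂, σ₂, c₂, hg₂, e₂⟩ := (exists_isVal ha v hv b₂).choose_spec
      refine isVal_unique' ha hv (exists_isVal ha v hv _).choose_spec
        ⟨_, _, _, (hg.shift N₂).add (add_comm N₂ N ▸ hg₂.shift N), ?_⟩
      simp only [map_add, map_mul, map_pow, e, e₂]; ring }

lemma valHom_spec (ha : IsAdapted C P a) {Z : Scheme.{u}} (v : Z ⟶ P.S)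
    (hv : IsUnit (v.appTop a)) (b : Γ(W.toScheme, ⊤)) :
    IsVal C P a v b (valHom ha v hv b) :=
  (exists_isVal ha v hv b).choose_spec

variable [IsAffine W.toScheme]

/-- The morphism determined by an adapted function. -/
def valMor (ha : IsAdapted C P a) {Z : Scheme.{u}} (v : Z ⟶ P.S) (hv : IsUnit (v.appTop a)) :
    Z ⟶ W.toScheme :=
  Z.toSpecΓ ≫ Spec.map (valHom ha v hv) ≫ W.toScheme.isoSpec.inv

lemma valMor_appTop (ha : IsAdapted C P a) {Z : Scheme.{u}} (v : Z ⟶ P.S)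
    (hv : IsUnit (v.appTop a)) (b : Γ(W.toScheme, ⊤)) :
    (valMor ha v hv).appTop b = valHom ha v hv b := by
  suffices (valMor ha v hv).appTop = valHom ha v hv by rw [this]
  have h : valMor ha v hv ≫ W.toScheme.toSpecΓ = Z.toSpecΓ ≫ Spec.map (valHom ha v hv) := by
    simp only [valMor, Category.assoc, ← Scheme.isoSpec_hom, Iso.inv_hom_id, Category.comp_id]
  have h' := congr(($h).appTop)
  rw [Scheme.Hom.comp_appTop, Scheme.Hom.comp_appTop, Scheme.toSpecΓ_appTop,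
    Scheme.toSpecΓ_appTop, Scheme.ΓSpecIso_naturality] at h'
  exact (cancel_epi (Scheme.ΓSpecIso _).hom).mp h'

lemma valMor_eq (ha : IsAdapted C P a) {Z : Scheme.{u}} (v : Z ⟶ P.S)
    (hv : IsUnit (v.appTop a)) (e : Z ⟶ W.toScheme)
    (he : ∀ b, IsVal C P a v b (e.appTop b)) : valMor ha v hv = e := by
  apply ext_of_isAffine
  ext b
  rw [valMor_appTop]
  exact isVal_unique' ha hv (valHom_spec ha v hv b) (he b)

lemma comp_valMor (ha : IsAdapted C P a) {Z Z' : Scheme.{u}} (w : Z' ⟶ Z) (v : Z ⟶ P.S)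
    (hv : IsUnit (v.appTop a)) (hv' : IsUnit ((w ≫ v).appTop a)) :
    w ≫ valMor ha v hv = valMor ha (w ≫ v) hv' := by
  refine (valMor_eq ha _ hv' _ fun b => ?_).symm
  obtain ⟨N, σ, c, hg, e⟩ := valHom_spec ha v hv b
  refine ⟨N, σ, c, hg, ?_⟩
  simp only [Scheme.Hom.comp_appTop, CommRingCat.comp_apply, valMor_appTop, e, map_mul, map_pow]

lemma valMor_agree [IsAffine W'.toScheme] (ha : IsAdapted C P a) (ha' : IsAdapted C' P a')
    (h : W' ≤ W) {Z : Scheme.{u}} (v : Z ⟶ P.S) (hv : IsUnit (v.appTop a))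
    (hv' : IsUnit (v.appTop a')) :
    valMor ha v hv ≫ W.ι = valMor ha' v hv' ≫ W'.ι := by
  suffices valMor ha v hv = valMor ha' v hv' ≫ X.homOfLE h by
    rw [this, Category.assoc, Scheme.homOfLE_ι]
  apply ext_of_isAffine
  ext b
  rw [Scheme.Hom.comp_appTop, CommRingCat.comp_apply, valMor_appTop, valMor_appTop]
  exact isVal_unique ha ha' h hv hv' (valHom_spec ha v hv b) (valHom_spec ha' v hv' _)

lemma valMor_ι (ha : IsAdapted C P a) {i : P.ι} {Z : Scheme.{u}} (j : Z ⟶ P.T i)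
    (hv : IsUnit ((j ≫ P.s i).appTop a)) :
    valMor ha (j ≫ P.s i) hv ≫ W.ι = j ≫ P.f i := by
  choose O hxO l g hgπ hga using ha i
  have hO : IsOpenCover (fun x => j ⁻¹ᵁ O x) := by
    rw [IsOpenCover, eq_top_iff]
    exact fun z _ => Opens.mem_iSup.mpr ⟨j z, hxO (j z)⟩
  apply (Z.openCoverOfIsOpenCover _ hO).hom_ext
  intro (x : P.T i)
  change (j ⁻¹ᵁ O x).ι ≫ _ = (j ⁻¹ᵁ O x).ι ≫ _
  set w := (j ⁻¹ᵁ O x).ι
  set k := (j ∣_ O x) ≫ g x
  have h1 : k ≫ C.π _ = (w ≫ j) ≫ P.f i := by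
    simp only [k, w, Category.assoc, hgπ, morphismRestrict_ι_assoc]
  have h2 : k.appTop (C.α _) = (w ≫ j).appTop ((P.s i).appTop a) := by
    rw [Scheme.Hom.comp_appTop, CommRingCat.comp_apply, hga, ← CommRingCat.comp_apply,
      ← Scheme.Hom.comp_appTop, morphismRestrict_ι]
  have hu' : IsUnit ((w ≫ j ≫ P.s i).appTop a) := by
    rw [Scheme.Hom.comp_appTop, CommRingCat.comp_apply]
    exact hv.map w.appTop.hom
  have hk : IsUnit (k.appTop (C.α _)) := by
    rw [h2]; simpa only [Scheme.Hom.comp_appTop, CommRingCat.comp_apply] using hu'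
  have hr : Set.range k ⊆ Set.range ((C.Y _).basicOpen (C.α (l x))).ι := by
    rintro _ ⟨z, rfl⟩
    rw [Scheme.Opens.range_ι, SetLike.mem_coe]
    suffices z ∈ k ⁻¹ᵁ (C.Y _).basicOpen (C.α (l x)) from this
    rw [Scheme.preimage_basicOpen_top, Scheme.basicOpen_of_isUnit _ hk]
    trivial
  let e := IsOpenImmersion.lift _ k hr
  have he : e ≫ ((C.Y _).basicOpen (C.α (l x))).ι = k := IsOpenImmersion.lift_fac _ _ _
  rw [← Category.assoc, comp_valMor ha w _ hv hu', valMor_eq ha _ hu' (e ≫ C.ρ (l x))]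
  · rw [Category.assoc, Chart.hρ, ← Category.assoc, he, h1, Category.assoc]
  intro b
  obtain ⟨N, σ, c, hg⟩ := exists_good ha b
  refine ⟨N, σ, c, hg, ?_⟩
  have E : ∀ y, e.appTop (((C.Y _).basicOpen (C.α (l x))).ι.appTop y) = k.appTop y := fun y => by
    rw [← CommRingCat.comp_apply, ← Scheme.Hom.comp_appTop, he]
  have := congr(e.appTop $(hg.1 (l x)))
  rw [map_mul, map_pow, E, E, hg.2 i _ (w ≫ j) k h1 h2, h2] at this
  simpa only [Scheme.Hom.comp_appTop, CommRingCat.comp_apply] using this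

/-- Gluing: a partition of unity by adapted functions refined by adapted functions. -/
theorem exists_hom {κ : Type u} [Finite κ] (W : κ → X.Opens) [∀ k, IsAffine (W k).toScheme]
    (C : ∀ k, Chart (W k)) (u : κ → Γ(P.S, ⊤)) (hu : IsOpenCover fun k => P.S.basicOpen (u k))
    (ha : ∀ k, IsAdapted (C k) P (u k))
    (href : ∀ j k, ∀ x ∈ P.S.basicOpen (u j) ⊓ P.S.basicOpen (u k),
      ∃ (V : X.Opens) (_ : IsAffine V.toScheme) (C₀ : Chart V) (a₀ : Γ(P.S, ⊤)),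
        V ≤ W j ∧ V ≤ W k ∧ IsAdapted C₀ P a₀ ∧ x ∈ P.S.basicOpen a₀) :
    ∃ F : P.S ⟶ X, ∀ i, P.s i ≫ F = P.f i := by
  have hU : ∀ k, IsUnit ((P.S.basicOpen (u k)).ι.appTop (u k)) :=
    fun k => isUnit_ι_appTop_basicOpen _
  let F : ∀ k, (P.S.basicOpen (u k)).toScheme ⟶ X := fun k =>
    valMor (ha k) _ (hU k) ≫ (W k).ι
  let 𝒰 := P.S.openCoverOfIsOpenCover _ hu
  have hagree : ∀ (j k : κ) {Z : Scheme.{u}} (p : Z ⟶ (P.S.basicOpen (u j)).toScheme)
      (q : Z ⟶ (P.S.basicOpen (u k)).toScheme),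
      p ≫ (P.S.basicOpen (u j)).ι = q ≫ (P.S.basicOpen (u k)).ι →
      p ≫ F j = q ≫ F k := by
    intro j k Z p q hpq
    set v := p ≫ (P.S.basicOpen (u j)).ι with hvdef
    have hmem : ∀ z, v z ∈ P.S.basicOpen (u j) ⊓ P.S.basicOpen (u k) := fun z =>
      ⟨(p z).2, by
        have : v z = (q ≫ (P.S.basicOpen (u k)).ι) z := congr($hpq z)
        rw [this]; exact (q z).2⟩
    choose V hV C₀ a₀ hVj hVk ha₀ hmem₀ using fun z => href j k (v z) (hmem z)
    have hcov : IsOpenCover (fun z => v ⁻¹ᵁ P.S.basicOpen (a₀ z)) := by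
      rw [IsOpenCover, eq_top_iff]
      exact fun z _ => Opens.mem_iSup.mpr ⟨z, hmem₀ z⟩
    apply (Z.openCoverOfIsOpenCover _ hcov).hom_ext
    intro (z : Z)
    change (v ⁻¹ᵁ P.S.basicOpen (a₀ z)).ι ≫ _ = (v ⁻¹ᵁ P.S.basicOpen (a₀ z)).ι ≫ _
    set w := (v ⁻¹ᵁ P.S.basicOpen (a₀ z)).ι
    have hw₀ : IsUnit ((w ≫ v).appTop (a₀ z)) := by
      rw [← morphismRestrict_ι, Scheme.Hom.comp_appTop, CommRingCat.comp_apply]
      exact (isUnit_ι_appTop_basicOpen _).map (v ∣_ _).appTop.hom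
    have hwj' : (w ≫ p) ≫ (P.S.basicOpen (u j)).ι = w ≫ v := by
      simp only [Category.assoc, hvdef]
    have hwk' : (w ≫ q) ≫ (P.S.basicOpen (u k)).ι = w ≫ v := by
      simp only [Category.assoc, hpq]
    have hwj : IsUnit ((w ≫ v).appTop (u j)) := by
      rw [← hwj', Scheme.Hom.comp_appTop, CommRingCat.comp_apply]
      exact (hU j).map (w ≫ p).appTop.hom
    have hwk : IsUnit ((w ≫ v).appTop (u k)) := by
      rw [← hwk', Scheme.Hom.comp_appTop, CommRingCat.comp_apply]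
      exact (hU k).map (w ≫ q).appTop.hom
    have := hV z
    have e1 : (w ≫ p) ≫ valMor (ha j) _ (hU j) = valMor (ha j) (w ≫ v) hwj := by
      have := comp_valMor (ha j) (w ≫ p) _ (hU j) (hwj' ▸ hwj)
      simpa only [hwj'] using this
    have e2 : (w ≫ q) ≫ valMor (ha k) _ (hU k) = valMor (ha k) (w ≫ v) hwk := by
      have := comp_valMor (ha k) (w ≫ q) _ (hU k) (hwk' ▸ hwk)
      simpa only [hwk'] using this
    calc w ≫ p ≫ F j = valMor (ha j) (w ≫ v) hwj ≫ (W j).ι := by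
          rw [← e1]; simp only [F, Category.assoc]
      _ = valMor (ha₀ z) (w ≫ v) hw₀ ≫ (V z).ι := valMor_agree _ _ (hVj z) _ _ _
      _ = valMor (ha k) (w ≫ v) hwk ≫ (W k).ι := (valMor_agree _ _ (hVk z) _ _ _).symm
      _ = w ≫ q ≫ F k := by rw [← e2]; simp only [F, Category.assoc]
  refine ⟨𝒰.glueMorphisms F (fun j k => hagree j k _ _ pullback.condition), fun i => ?_⟩
  have hcov : IsOpenCover (fun k => P.s i ⁻¹ᵁ P.S.basicOpen (u k)) := by
    rw [IsOpenCover, eq_top_iff]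
    intro t _
    obtain ⟨k, hk⟩ := Opens.mem_iSup.mp (show P.s i t ∈ ⨆ k, P.S.basicOpen (u k) by
        rw [hu.iSup_eq_top]; trivial)
    exact Opens.mem_iSup.mpr ⟨k, hk⟩
  apply ((P.T i).openCoverOfIsOpenCover _ hcov).hom_ext
  intro (k : κ)
  change (P.s i ⁻¹ᵁ P.S.basicOpen (u k)).ι ≫ _ = (P.s i ⁻¹ᵁ P.S.basicOpen (u k)).ι ≫ _
  rw [← morphismRestrict_ι_assoc]
  erw [𝒰.ι_glueMorphisms F _ k]
  set w := (P.s i ⁻¹ᵁ P.S.basicOpen (u k)).ι
  have hv : IsUnit ((w ≫ P.s i).appTop (u k)) := by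
    rw [← morphismRestrict_ι, Scheme.Hom.comp_appTop, CommRingCat.comp_apply]
    exact (hU k).map (P.s i ∣_ _).appTop.hom
  have e : (P.s i ∣_ P.S.basicOpen (u k)) ≫ valMor (ha k) _ (hU k) =
      valMor (ha k) (w ≫ P.s i) hv := by
    have := comp_valMor (ha k) (P.s i ∣_ P.S.basicOpen (u k)) _ (hU k)
      (by simpa only [morphismRestrict_ι] using hv)
    simpa only [morphismRestrict_ι] using this
  rw [← valMor_ι (ha k) w hv, ← e]
  simp only [F, Category.assoc]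

end

end Groth.Agent.PiPoints
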