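import Groth.Agent.PiPoints.Basic

/-!
Existence of charts and adapted partitions of unity; the surjectivity of `X(∏ Rᵢ) → ∏ X(Rᵢ)`.
-/

set_option autoImplicit false

open CategoryTheory Limits AlgebraicGeometry TopologicalSpace

universe u

namespace Groth.Agent.PiPoints

noncomputable section

lemma mem_radical_of_basicOpen_le {T : Scheme.{u}} [IsAffine T] (a : Γ(T, ⊤))
    (I : Ideal Γ(T, ⊤)) (h : ∀ t ∈ T.basicOpen a, ∃ x ∈ I, t ∈ T.basicOpen x) :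
    a ∈ I.radical := by
  rw [Ideal.radical_eq_sInf, Submodule.mem_sInf]
  rintro p ⟨hIp, hp⟩
  by_contra hap
  let y : (Spec Γ(T, ⊤) : Scheme) := (⟨p, hp⟩ : PrimeSpectrum Γ(T, ⊤))
  have key : ∀ x, T.isoSpec.inv y ∈ T.basicOpen x ↔ x ∉ p := by
    intro x
    rw [← Scheme.toSpecΓ_preimage_basicOpen]
    change T.toSpecΓ (T.isoSpec.inv y) ∈ PrimeSpectrum.basicOpen x ↔ _
    rw [← Scheme.isoSpec_hom, ← Scheme.Hom.comp_apply, Iso.inv_hom_id]
    rfl
  obtain ⟨x, hx, hxt⟩ := h _ ((key a).mpr hap)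
  exact (key x).mp hxt (hIp hx)

lemma basicOpen_sum_le {T : Scheme.{u}} {κ : Type*} (s : Finset κ) (w : κ → Γ(T, ⊤)) :
    T.basicOpen (∑ m ∈ s, w m) ≤ ⨆ m ∈ s, T.basicOpen (w m) := by
  classical
  induction s using Finset.induction_on with
  | empty => simp
  | @insert m s hm ih =>
    rw [Finset.sum_insert hm, iSup_insert_finset]
    intro t ht
    rcases T.basicOpen_add_le (w m) (∑ m ∈ s, w m) ht with h | h
    · exact Opens.mem_sup.mpr (Or.inl h)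
    · exact Opens.mem_sup.mpr (Or.inr (ih h))
where
  iSup_insert_finset {κ : Type _} [DecidableEq κ] {s : Finset κ} {m : κ} {V : κ → T.Opens} :
      (⨆ k ∈ insert m s, V k) = V m ⊔ ⨆ k ∈ s, V k := Finset.iSup_insert m s V

lemma exists_pow_eq_sum {T : Scheme.{u}} [IsAffine T] {κ : Type*} [Fintype κ] (a : Γ(T, ⊤))
    (V : κ → T.Opens) (h : T.basicOpen a ≤ ⨆ m, V m) :
    ∃ (L : ℕ) (w : κ → Γ(T, ⊤)), a ^ L = ∑ m, w m ∧ ∀ m, T.basicOpen (w m) ≤ V m := by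
  classical
  let I : κ → Ideal Γ(T, ⊤) := fun m =>
    { carrier := {x | T.basicOpen x ≤ V m}
      add_mem' := fun {x y} hx hy t ht => (T.basicOpen_add_le x y ht).elim (@hx t) (@hy t)
      zero_mem' := by simp
      smul_mem' := fun r x hx => by
        change T.basicOpen (r * x) ≤ V m
        rw [Scheme.basicOpen_mul]; exact inf_le_right.trans hx }
  obtain ⟨L, hL⟩ : a ∈ (⨆ m, I m).radical := by
    refine mem_radical_of_basicOpen_le a _ fun t ht => ?_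
    obtain ⟨m, hm⟩ := Opens.mem_iSup.mp (h ht)
    obtain ⟨_, ⟨x, rfl⟩, hxt, hxV⟩ :=
      Opens.isBasis_iff_nbhd.mp (isBasis_basicOpen T) hm
    exact ⟨x, le_iSup I m hxV, hxt⟩
  have hL' : a ^ L ∈ ⨆ m ∈ (Finset.univ : Finset κ), I m := by simpa using hL
  obtain ⟨μ, hμ⟩ := (Submodule.mem_iSup_finset_iff_exists_sum _ _).mp hL'
  exact ⟨L, fun m => μ m, hμ.symm, fun m => (μ m).2⟩

lemma exists_finset_basicOpen {T : Scheme.{u}} [IsAffine T] (V : T.Opens)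
    (hV : IsCompact (V : Set T)) :
    ∃ F : Finset Γ(T, ⊤), V = ⨆ e : F, T.basicOpen e.1 := by
  classical
  have key : ∀ x : V, ∃ e : Γ(T, ⊤), x.1 ∈ T.basicOpen e ∧ T.basicOpen e ≤ V := by
    intro x
    obtain ⟨_, ⟨e, rfl⟩, hxe, heV⟩ := Opens.isBasis_iff_nbhd.mp (isBasis_basicOpen T) x.2
    exact ⟨e, hxe, heV⟩
  choose e he heV using key
  obtain ⟨s, hs⟩ := hV.elim_finite_subcover (fun x : V => (T.basicOpen (e x) : Set T))
    (fun x => (T.basicOpen (e x)).2) (fun x hx => Set.mem_iUnion.mpr ⟨⟨x, hx⟩, he ⟨x, hx⟩⟩)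
  refine ⟨s.image e, le_antisymm (fun x hx => ?_) (iSup_le fun c => ?_)⟩
  · obtain ⟨y, hy, hxy⟩ := Set.mem_iUnion₂.mp (hs hx)
    exact Opens.mem_iSup.mpr ⟨⟨e y, Finset.mem_image_of_mem e hy⟩, hxy⟩
  · obtain ⟨y, -, hy⟩ := Finset.mem_image.mp c.2
    exact hy ▸ heV y

variable {X : Scheme.{u}}

/-- `Spec R[X_σ] → Spec R ≅ V`. -/
def toV (V : Scheme.{u}) [IsAffine V] (σ : Type u) :
    Spec (CommRingCat.of (MvPolynomial σ Γ(V, ⊤))) ⟶ V :=
  Spec.map (CommRingCat.ofHom MvPolynomial.C) ≫ V.isoSpec.inv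

lemma basicOpen_le_toV (V : Scheme.{u}) [IsAffine V] {σ : Type u} [Fintype σ]
    (e : σ → Γ(V, ⊤)) (W : V.Opens) (hW : ∀ m, V.basicOpen (e m) ≤ W) :
    (Spec (CommRingCat.of (MvPolynomial σ Γ(V, ⊤)))).basicOpen
        ((Scheme.ΓSpecIso (CommRingCat.of (MvPolynomial σ Γ(V, ⊤)))).inv
          (∑ m, MvPolynomial.X m * MvPolynomial.C (e m))) ≤ toV V σ ⁻¹ᵁ W := by
  intro y hy
  rw [basicOpen_eq_of_affine] at hy
  obtain ⟨m, hm⟩ : ∃ m, (MvPolynomial.C (e m) : MvPolynomial σ Γ(V, ⊤)) ∉ y.asIdeal := by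
    by_contra hcon
    push Not at hcon
    exact hy (Ideal.sum_mem _ fun m _ => Ideal.mul_mem_left _ _ (hcon m))
  refine hW m ?_
  rw [← Scheme.toSpecΓ_preimage_basicOpen]
  change V.toSpecΓ (toV V σ y) ∈ PrimeSpectrum.basicOpen (e m)
  have h2 : toV V σ ≫ V.toSpecΓ = Spec.map (CommRingCat.ofHom MvPolynomial.C) := by
    rw [toV, Category.assoc, ← Scheme.isoSpec_hom, Iso.inv_hom_id, Category.comp_id]
  rw [← Scheme.Hom.comp_apply, h2]
  exact hm

/-- The chart of `W` attached to a finite affine cover `U` and functions `F l` cutting out `W`. -/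
def mkChart (W : X.Opens) {L : Type u} [Finite L] (U : L → X.Opens)
    [∀ l, IsAffine (U l).toScheme] (F : ∀ l, Finset Γ((U l).toScheme, ⊤))
    (hF : ∀ l, ∀ e ∈ F l, (U l).toScheme.basicOpen e ≤ (U l).ι ⁻¹ᵁ W) : Chart W where
  κ := L
  Y l := Spec (CommRingCat.of (MvPolynomial (F l) Γ((U l).toScheme, ⊤)))
  π l := toV (U l).toScheme (F l) ≫ (U l).ι
  α l := (Scheme.ΓSpecIso (CommRingCat.of (MvPolynomial (F l) Γ((U l).toScheme, ⊤)))).inv
    (∑ e : F l, MvPolynomial.X e * MvPolynomial.C e.1)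
  ρ l := (toV (U l).toScheme (F l) ≫ (U l).ι).resLE W _
    (basicOpen_le_toV (U l).toScheme (fun e : F l => e.1) ((U l).ι ⁻¹ᵁ W) fun e => hF l e.1 e.2)
  hρ l := Scheme.Hom.resLE_comp_ι _ _

lemma exists_lift {V O : Scheme.{u}} [IsAffine V] {σ : Type u} [Fintype σ] (q : O ⟶ V)
    (e : σ → Γ(V, ⊤)) (h : σ → Γ(O, ⊤)) :
    ∃ g : O ⟶ Spec (CommRingCat.of (MvPolynomial σ Γ(V, ⊤))), g ≫ toV V σ = q ∧
      g.appTop ((Scheme.ΓSpecIso (CommRingCat.of (MvPolynomial σ Γ(V, ⊤)))).inv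
        (∑ m, MvPolynomial.X m * MvPolynomial.C (e m))) = ∑ m, h m * q.appTop (e m) := by
  let R := CommRingCat.of (MvPolynomial σ Γ(V, ⊤))
  let φ : R ⟶ Γ(O, ⊤) := CommRingCat.ofHom (MvPolynomial.eval₂Hom q.appTop.hom h)
  refine ⟨O.toSpecΓ ≫ Spec.map φ, ?_, ?_⟩
  · have e1 : CommRingCat.ofHom MvPolynomial.C ≫ φ = q.appTop :=
      CommRingCat.hom_ext (RingHom.ext fun r => MvPolynomial.eval₂_C _ _ r)
    rw [toV, Category.assoc, ← Spec.map_comp_assoc, e1, ← Scheme.toSpecΓ_naturality_assoc,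
      ← Scheme.isoSpec_hom, Iso.hom_inv_id, Category.comp_id]
  · have e2 : (Scheme.ΓSpecIso R).inv ≫ (O.toSpecΓ ≫ Spec.map φ).appTop = φ := by
      rw [Scheme.Hom.comp_appTop, Scheme.toSpecΓ_appTop, Scheme.ΓSpecIso_naturality,
        Iso.inv_hom_id_assoc]
    rw [← CommRingCat.comp_apply, e2]
    simp only [φ, CommRingCat.hom_ofHom, map_sum, map_mul]
    exact Finset.sum_congr rfl fun m _ =>
      congrArg₂ (· * ·) (MvPolynomial.eval₂_X _ _ m) (MvPolynomial.eval₂_C _ _ (e m))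

lemma exists_adapted_pow (W : X.Opens) {L : Type u} [Finite L] (U : L → X.Opens)
    [∀ l, IsAffine (U l).toScheme] (hU : IsOpenCover U)
    (F : ∀ l, Finset Γ((U l).toScheme, ⊤))
    (hF : ∀ l, ∀ e ∈ F l, (U l).toScheme.basicOpen e ≤ (U l).ι ⁻¹ᵁ W)
    (hF' : ∀ l, (U l).ι ⁻¹ᵁ W ≤ ⨆ e : F l, (U l).toScheme.basicOpen e.1)
    {T : Scheme.{u}} [IsAffine T] (f : T ⟶ X) (a : Γ(T, ⊤))
    (ha : T.basicOpen a ≤ f ⁻¹ᵁ W) :
    ∃ M : ℕ, ∀ M', M ≤ M' → ∀ t : Γ(T, ⊤), Adapted (mkChart W U F hF) f (t * a ^ M') := by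
  classical
  have key : ∀ x : T, ∃ O : T.Opens, x ∈ O ∧ ∃ (l : L) (h : O ≤ f ⁻¹ᵁ U l) (n : ℕ),
      O.ι.appTop a ^ n ∈ Ideal.span (Set.range fun e : F l => (f.resLE (U l) O h).appTop e.1) := by
    intro x
    obtain ⟨l, hl⟩ := Opens.mem_iSup.mp (show f x ∈ ⨆ l, U l by rw [hU.iSup_eq_top]; trivial)
    obtain ⟨O, hO, hxO, hOl⟩ : ∃ O : T.Opens, IsAffineOpen O ∧ x ∈ O ∧ O ≤ f ⁻¹ᵁ U l := by
      obtain ⟨O, hO, hxO, hOl⟩ := Opens.isBasis_iff_nbhd.mp T.isBasis_affineOpens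
        (show x ∈ f ⁻¹ᵁ U l from hl)
      exact ⟨O, hO, hxO, hOl⟩
    have : IsAffine O.toScheme := hO
    refine ⟨O, hxO, l, hOl, ?_⟩
    refine mem_radical_of_basicOpen_le (O.ι.appTop a) _ fun y hy => ?_
    rw [← Scheme.preimage_basicOpen_top] at hy
    have h1 : f (O.ι y) ∈ W := ha hy
    have h2 : (f.resLE (U l) O hOl) y ∈ (U l).ι ⁻¹ᵁ W := by
      change (U l).ι ((f.resLE (U l) O hOl) y) ∈ W
      rw [← Scheme.Hom.comp_apply, Scheme.Hom.resLE_comp_ι, Scheme.Hom.comp_apply]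
      exact h1
    obtain ⟨e, he⟩ := Opens.mem_iSup.mp (hF' l h2)
    refine ⟨_, Ideal.subset_span ⟨e, rfl⟩, ?_⟩
    rw [← Scheme.preimage_basicOpen_top]
    exact he
  choose O hxO l hl n hn using key
  obtain ⟨s, hs⟩ := isCompact_univ.elim_finite_subcover (fun x : T => (O x : Set T))
    (fun x => (O x).2) (fun x _ => Set.mem_iUnion.mpr ⟨x, hxO x⟩)
  refine ⟨s.sup n, fun M' hM' t x => ?_⟩
  obtain ⟨x₀, hx₀, hxx₀⟩ := Set.mem_iUnion₂.mp (hs (Set.mem_univ x))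
  refine ⟨O x₀, hxx₀, l x₀, ?_⟩
  set q := f.resLE (U (l x₀)) (O x₀) (hl x₀) with hq
  have hmem : (O x₀).ι.appTop (t * a ^ M') ∈
      Ideal.span (Set.range fun e : F (l x₀) => q.appTop e.1) := by
    rw [map_mul, map_pow, ← Nat.sub_add_cancel ((Finset.le_sup hx₀).trans hM'), pow_add,
      ← mul_assoc]
    exact Ideal.mul_mem_left _ _ (hn x₀)
  obtain ⟨h, hh⟩ := (Ideal.mem_span_range_iff_exists_fun).mp hmem
  obtain ⟨g, hg1, hg2⟩ := exists_lift q (fun e : F (l x₀) => e.1) h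
  refine ⟨g, ?_, hg2.trans hh⟩
  change g ≫ toV (U (l x₀)).toScheme (F (l x₀)) ≫ (U (l x₀)).ι = _
  rw [← Category.assoc, hg1, hq, Scheme.Hom.resLE_comp_ι]

lemma exists_chart [CompactSpace X] [QuasiSeparatedSpace X] (W : X.Opens)
    (hW : IsCompact (W : Set X)) :
    ∃ C : Chart W, ∀ {T : Scheme.{u}} [IsAffine T] (f : T ⟶ X) (a : Γ(T, ⊤)),
      T.basicOpen a ≤ f ⁻¹ᵁ W →
      ∃ M : ℕ, ∀ M', M ≤ M' → ∀ t : Γ(T, ⊤), Adapted C f (t * a ^ M') := by
  classical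
  obtain ⟨s, hs, hs'⟩ := isCompact_and_isOpen_iff_finite_and_eq_biUnion_affineOpens.mp
    (⟨isCompact_univ, isOpen_univ⟩ : IsCompact (Set.univ : Set X) ∧ IsOpen (Set.univ : Set X))
  let U : s → X.Opens := fun l => l.1.1
  have : Finite s := hs.to_subtype
  have : ∀ l, IsAffine (U l).toScheme := fun l => l.1.2
  have hU : IsOpenCover U := by
    rw [IsOpenCover, eq_top_iff]
    intro x _
    obtain ⟨V, hV, hxV⟩ := Set.mem_iUnion₂.mp (hs' ▸ Set.mem_univ x :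
      x ∈ ⋃ i ∈ s, (i : X.Opens).1)
    exact Opens.mem_iSup.mpr ⟨⟨V, hV⟩, hxV⟩
  have hc : ∀ l, IsCompact (((U l).ι ⁻¹ᵁ W : (U l).toScheme.Opens) : Set (U l).toScheme) := by
    intro l
    rw [(U l).ι.isOpenEmbedding.isEmbedding.isCompact_iff]
    have : (U l).ι '' (((U l).ι ⁻¹ᵁ W : (U l).toScheme.Opens) : Set (U l).toScheme) =
        (U l : Set X) ∩ W := by
      change (U l).ι '' ((U l).ι ⁻¹' (W : Set X)) = _
      rw [Set.image_preimage_eq_range_inter, Scheme.Opens.range_ι]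
    rw [this]
    exact QuasiSeparatedSpace.inter_isCompact _ _ (U l).2 (IsAffineOpen.isCompact (l.1.2))
      W.2 hW
  choose F hF using fun l => exists_finset_basicOpen _ (hc l)
  have hF1 : ∀ l, ∀ e ∈ F l, (U l).toScheme.basicOpen e ≤ (U l).ι ⁻¹ᵁ W := fun l e he => by
    rw [hF l]; exact le_iSup (fun e : F l => (U l).toScheme.basicOpen e.1) ⟨e, he⟩
  exact ⟨mkChart W U F hF1, fun f a ha =>
    exists_adapted_pow W U hU F hF1 (fun l => (hF l).le) f a ha⟩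

theorem exists_hom_of_qcqs [CompactSpace X] [QuasiSeparatedSpace X] (P : Prod' X)
    [∀ i, IsAffine (P.T i)] : ∃ F : P.S ⟶ X, ∀ i, P.s i ≫ F = P.f i := by
  classical
  obtain ⟨s, hs, hs'⟩ := isCompact_and_isOpen_iff_finite_and_eq_biUnion_affineOpens.mp
    (⟨isCompact_univ, isOpen_univ⟩ : IsCompact (Set.univ : Set X) ∧ IsOpen (Set.univ : Set X))
  have : Fintype s := hs.fintype
  let W : s → X.Opens := fun l => l.1.1
  have hWaff : ∀ l, IsAffine (W l).toScheme := fun l => l.1.2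
  have hW : ∀ x : X, ∃ k, x ∈ W k := fun x => by
    obtain ⟨V, hV, hxV⟩ := Set.mem_iUnion₂.mp (hs' ▸ Set.mem_univ x :
      x ∈ ⋃ i ∈ s, (i : X.Opens).1)
    exact ⟨⟨V, hV⟩, hxV⟩
  choose C hC using fun k => exists_chart (W k) (IsAffineOpen.isCompact k.1.2)
  have hinter : ∀ j k : s, ∃ D : Finset X.affineOpens,
      W j ⊓ W k = ⨆ m : D, (m.1 : X.Opens) := by
    intro j k
    obtain ⟨D, hD, hD'⟩ := (isCompact_and_isOpen_iff_finite_and_eq_biUnion_affineOpens (U := (W j : Set X) ∩ W k)).mp ⟨QuasiSeparatedSpace.inter_isCompact _ _ (W j).2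
        (IsAffineOpen.isCompact j.1.2) (W k).2 (IsAffineOpen.isCompact k.1.2),
        (W j).2.inter (W k).2⟩
    refine ⟨hD.toFinset, Opens.ext ?_⟩
    rw [Opens.coe_inf, hD', Opens.coe_iSup]
    ext x
    simp
  choose D hD using hinter
  have hDaff : ∀ (j k : s) (m : D j k), IsAffine (m.1.1).toScheme := fun j k m => m.1.2
  choose C₀ hC₀ using fun (p : Σ (j : s) (k : s), D j k) =>
    exists_chart (p.2.2.1.1) (IsAffineOpen.isCompact p.2.2.1.2)
  have local' : ∀ i, ∃ (u : s → Γ(P.T i, ⊤)) (x : (Σ (j : s) (k : s), D j k) → Γ(P.T i, ⊤)),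
      (∑ k, u k = 1) ∧ (∀ k, Adapted (C k) (P.f i) (u k)) ∧
      (∀ j k, u j * u k = ∑ m : D j k, x ⟨j, k, m⟩) ∧
      (∀ p, Adapted (C₀ p) (P.f i) (x p)) := by
    intro i
    obtain ⟨_, v, hv, hvW⟩ := exists_pow_eq_sum (1 : Γ(P.T i, ⊤)) (fun k => P.f i ⁻¹ᵁ W k)
      (fun t _ => let ⟨k, hk⟩ := hW (P.f i t); Opens.mem_iSup.mpr ⟨k, hk⟩)
    rw [one_pow] at hv
    choose M hM using fun k => hC k (P.f i) (v k) (hvW k)
    have hjk : ∀ p : s × s, (P.T i).basicOpen (v p.1 * v p.2) ≤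
        ⨆ m : D p.1 p.2, P.f i ⁻¹ᵁ (m.1 : X.Opens) := by
      intro p t ht
      rw [Scheme.basicOpen_mul] at ht
      have : P.f i t ∈ W p.1 ⊓ W p.2 := ⟨hvW _ ht.1, hvW _ ht.2⟩
      rw [hD] at this
      obtain ⟨m, hm⟩ := Opens.mem_iSup.mp this
      exact Opens.mem_iSup.mpr ⟨m, hm⟩
    choose L w hw hwV using fun p => exists_pow_eq_sum _ _ (hjk p)
    choose M₀ hM₀ using fun (q : Σ (j : s) (k : s), D j k) =>
      hC₀ q (P.f i) (w (q.1, q.2.1) q.2.2) (hwV (q.1, q.2.1) q.2.2)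
    have hpow : ∀ p : s × s, ∃ n : ℕ, (v p.1 * v p.2) ^ n ∈ Ideal.span
        (Set.range fun m : D p.1 p.2 => w p m ^ M₀ ⟨p.1, p.2, m⟩) := by
      intro p
      refine Ideal.radical_isRadical _ ⟨L p, ?_⟩
      rw [hw p]
      exact Ideal.sum_mem _ fun m _ => ⟨M₀ ⟨p.1, p.2, m⟩, Ideal.subset_span ⟨m, rfl⟩⟩
    choose n hn using hpow
    let K := max (Finset.univ.sup M) (Finset.univ.sup n)
    have h1 : Ideal.span (Set.range v) = ⊤ := by
      rw [Ideal.eq_top_iff_one, hv]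
      exact Ideal.sum_mem _ fun k _ => Ideal.subset_span ⟨k, rfl⟩
    have h2 : Ideal.span (Set.range fun k => v k ^ K) = ⊤ := by
      have := Ideal.span_pow_eq_top _ h1 K
      rwa [← Set.range_comp] at this
    obtain ⟨lam, hlam⟩ := Ideal.mem_span_range_iff_exists_fun.mp ((Ideal.eq_top_iff_one _).mp h2)
    have hc : ∀ p : s × s, ∃ c : D p.1 p.2 → Γ(P.T i, ⊤),
        ∑ m, c m * w p m ^ M₀ ⟨p.1, p.2, m⟩ = (v p.1 * v p.2) ^ K := by
      intro p
      refine Ideal.mem_span_range_iff_exists_fun.mp ?_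
      rw [← Nat.sub_add_cancel ((Finset.le_sup (Finset.mem_univ p)).trans
        (le_max_right (Finset.univ.sup M) (Finset.univ.sup n)) : n p ≤ K), pow_add]
      exact Ideal.mul_mem_left _ _ (hn p)
    choose c hc using hc
    refine ⟨fun k => lam k * v k ^ K,
      fun q => lam q.1 * lam q.2.1 * c (q.1, q.2.1) q.2.2 * w (q.1, q.2.1) q.2.2 ^ M₀ q,
      hlam, fun k => hM k K ((Finset.le_sup (Finset.mem_univ k)).trans (le_max_left _ _)) _,
      fun j k => ?_, fun q => hM₀ q _ le_rfl _⟩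
    calc lam j * v j ^ K * (lam k * v k ^ K) = lam j * lam k * (v j * v k) ^ K := by ring
      _ = _ := by
        rw [← hc (j, k), Finset.mul_sum]
        refine Finset.sum_congr rfl fun m _ => ?_
        ring
  choose u x hu hua hux hxa using local'
  choose U' hU' using fun k => P.surj fun i => u i k
  choose X' hX' using fun q => P.surj fun i => x i q
  have hsum : ∑ k, U' k = 1 := P.inj _ _ fun i => by
    rw [map_sum, map_one, ← hu i]; exact Finset.sum_congr rfl fun k _ => hU' k i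
  have hprod : ∀ j k, U' j * U' k = ∑ m : D j k, X' ⟨j, k, m⟩ := fun j k => P.inj _ _ fun i => by
    rw [map_mul, map_sum, hU', hU', hux i j k]
    exact Finset.sum_congr rfl fun m _ => (hX' _ i).symm
  refine exists_hom (P := P) W C U' ?_ (fun k i => (hU' k i).symm ▸ hua i k) fun j k t ht => ?_
  · rw [IsOpenCover, eq_top_iff]
    intro t _
    have : t ∈ P.S.basicOpen (∑ k, U' k) := by
      rw [hsum, Scheme.basicOpen_of_isUnit _ isUnit_one]; trivial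
    obtain ⟨k, hk⟩ := Opens.mem_iSup.mp (basicOpen_sum_le _ _ this)
    obtain ⟨-, hk⟩ := Opens.mem_iSup.mp hk
    exact Opens.mem_iSup.mpr ⟨k, hk⟩
  · rw [← Scheme.basicOpen_mul, hprod] at ht
    obtain ⟨m, hm⟩ := Opens.mem_iSup.mp (basicOpen_sum_le _ _ ht)
    obtain ⟨-, hm⟩ := Opens.mem_iSup.mp hm
    have hle : (m.1 : X.Opens) ≤ W j ⊓ W k := by
      rw [hD]; exact le_iSup (fun m : D j k => (m.1 : X.Opens)) m
    exact ⟨m.1.1, m.1.2, C₀ ⟨j, k, m⟩, X' ⟨j, k, m⟩, hle.trans inf_le_left,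
      hle.trans inf_le_right, fun i => (hX' _ i).symm ▸ hxa i _, hm⟩

end

end Groth.Agent.PiPoints
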